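import Groth.Agent.H4LocDual.Postcomp

/-!
# Derived completion of `RHom(K, ω)` is `RHom(RΓ K, E)`
-/

set_option autoImplicit false
set_option linter.style.haveILetI false
universe u

open CategoryTheory CategoryTheory.Limits CochainComplex CochainComplex.HomComplex Pretriangulated
open Groth.Agent.H4DR Groth.Agent.H4DR.RG Groth.Agent.H4DR.RHom Groth.Agent.H4DR.DComplete

attribute [local instance] HasDerivedCategory.standard

namespace Groth.Agent.H4LocDual

variable {A : Type u} [CommRing A]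

/-- An object with cohomology only in degree `0`. -/
theorem nonempty_iso_inD {X : Dual.D A} {E : Type u} [AddCommGroup E] [Module A E]
    (h0 : Nonempty (Dual.HD A X 0 ≃ₗ[A] E)) (hne : ∀ i : ℤ, i ≠ 0 → Subsingleton (Dual.HD A X i)) :
    Nonempty (X ≅ Dual.inD A E) := by
  haveI : X.IsLE 0 := (DerivedCategory.isLE_iff X 0).2 fun i hi =>
    @ModuleCat.isZero_of_subsingleton _ _ _ (hne i (by omega))
  haveI : X.IsGE 0 := (DerivedCategory.isGE_iff X 0).2 fun i hi =>
    @ModuleCat.isZero_of_subsingleton _ _ _ (hne i (by omega))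
  obtain ⟨Y, ⟨e⟩⟩ := DerivedCategory.exists_iso_singleFunctor_obj_of_isGE_of_isLE X 0
  obtain ⟨τ⟩ := h0
  let f : Y ≅ ModuleCat.of A E :=
    ((DerivedCategory.singleFunctorCompHomologyFunctorIso (ModuleCat.{u} A) 0).app Y).symm ≪≫
      (DerivedCategory.homologyFunctor (ModuleCat.{u} A) 0).mapIso e.symm ≪≫ τ.toModuleIso
  exact ⟨e ≪≫ (DerivedCategory.singleFunctor (ModuleCat.{u} A) 0).mapIso f⟩

variable [IsNoetherianRing A] (I : Ideal A) [DRing.HasRgammaI I]

/-- If `RΓ ω ≅ E`, the completion of `RHom(K, ω)` is `RHom(RΓ K, E)`. -/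
theorem nonempty_completion_rhom_iso [DRing.HasDerivedCompletion I] (ω : Dual.D A) {Y : Dual.D A}
    (eY : (DRing.RgammaI I).obj ω ≅ Y) (K G : DRing.Cx A) [DRing.HasRHomCx K] [DRing.HasRHomCx G]
    (eG : DRing.toD G ≅ (DRing.RgammaI I).obj (DRing.toD K)) :
    Nonempty (((DRing.derivedCompletion I).obj ((DRing.RHomCx K).obj ω)).obj ≅ (DRing.RHomCx G).obj Y) := by
  obtain ⟨s, hs⟩ := IsNoetherian.noetherian I
  replace hs : Ideal.span (s : Set A) = I := hs
  subst hs
  set I := Ideal.span (s : Set A)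
  -- the completion commutes with `RHom`
  let η := DRing.toDerivedCompletion I ω
  obtain ⟨e₁, -⟩ := (isCompletion_unit (I := I) ((DRing.RHomCx K).obj ω)).exists_iso (isCompletion_rhom s K ω)
  have hη : DComplete.IsCompletion I η := isCompletion_unit (I := I) ω
  let X : Dual.D A := ((DRing.derivedCompletion I).obj ω).obj
  -- models
  obtain ⟨JX, hJX, -, ⟨eX⟩⟩ := exists_model X
  haveI := hJX
  obtain ⟨JY, hJY, -, ⟨eJY⟩⟩ := exists_model Y
  haveI := hJY
  obtain ⟨K₁, hK₁, -, ⟨eK⟩⟩ := exists_model (DRing.toD K)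
  haveI := hK₁
  have hc : ∀ n : ℤ, DRing.IsDerivedComplete I (DerivedCategory.Q.obj (JX⟦n⟧)) := fun n =>
    isDerivedComplete_of_iso (((DerivedCategory.Q.commShiftIso n).app JX) ≪≫
      (CategoryTheory.shiftFunctor (Dual.D A) n).mapIso eX).symm (isDerivedComplete_shift hη.complete n)
  obtain ⟨j, hj⟩ := DComplete.exists_Q_map_eq (P := K) (J := K₁) eK.inv
  obtain ⟨g, hg⟩ := DComplete.exists_Q_map_eq (P := G) (J := K₁)
    (eG.hom ≫ (DRing.RgammaIε I).app (DRing.toD K) ≫ eK.inv)
  haveI : IsIso (DerivedCategory.Q.map j) := by rw [hj]; infer_instance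
  haveI : QuasiIso (homCxPre j JX) := quasiIso_homCxPre j JX fun n =>
    ⟨fun a b hab => (cancel_epi (DerivedCategory.Q.map j)).1 hab,
      fun y => ⟨inv (DerivedCategory.Q.map j) ≫ y, IsIso.hom_inv_id_assoc _ _⟩⟩
  haveI : QuasiIso (homCxPre g JX) := quasiIso_homCxPre g JX fun n => by
    have hb := bijective_precomp_ε I (DRing.toD K) (hc n)
    rw [hg]
    refine ⟨fun a b hab => (cancel_epi eK.inv).1 (hb.1 ((cancel_epi eG.hom).1 ?_)), fun y => ?_⟩
    · simpa only [Category.assoc] using hab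
    · obtain ⟨w, hw⟩ := hb.2 (eG.inv ≫ y)
      refine ⟨eK.hom ≫ w, ?_⟩
      show (eG.hom ≫ (DRing.RgammaIε I).app (DRing.toD K) ≫ eK.inv) ≫ eK.hom ≫ w = y
      rw [Category.assoc, Category.assoc, Iso.inv_hom_id_assoc,
        show (DRing.RgammaIε I).app (DRing.toD K) ≫ w = eG.inv ≫ y from hw, Iso.hom_inv_id_assoc]
  -- the map `Y ⟶ X`
  haveI := isIso_rgamma_map_completion I hη
  let v : Y ⟶ X := eY.inv ≫ (DRing.RgammaI I).map η ≫ (DRing.RgammaIε I).app X
  have hv : ∀ T : Dual.D A, IsTors I T → Function.Bijective (fun y : T ⟶ Y => y ≫ v) := fun T hT =>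
    bijective_postcomp_conj (v := (DRing.RgammaIε I).app X) (eY.symm ≪≫ asIso ((DRing.RgammaI I).map η))
      (Iso.refl X) (by simp only [v, Iso.trans_hom, Iso.symm_hom, asIso_hom, Iso.refl_hom, Category.comp_id,
        Category.assoc]) (bijective_postcomp_ε hT X)
  obtain ⟨f, hf⟩ := DComplete.exists_Q_map_eq (P := JY) (J := JX) (eJY.hom ≫ v ≫ eX.inv)
  haveI : QuasiIso ((DRing.homCxFunctor G).map f) := quasiIso_homCxPost G f fun n => by
    refine bijective_postcomp_conj ((DerivedCategory.Q.commShiftIso n).app JY ≪≫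
      (CategoryTheory.shiftFunctor (Dual.D A) n).mapIso eJY)
      ((DerivedCategory.Q.commShiftIso n).app JX ≪≫
        (CategoryTheory.shiftFunctor (Dual.D A) n).mapIso eX) ?_
      (bijective_postcomp_shift v hv n _ (isTors_of_iso eG.symm (isTors_rgamma _)))
    simp only [Iso.trans_hom, Iso.app_hom, Functor.mapIso_hom]
    have hn := (DerivedCategory.Q.commShiftIso n).hom.naturality f
    simp only [Functor.comp_map] at hn
    rw [reassoc_of% hn, hf]
    simp only [Functor.map_comp, Category.assoc]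
    rw [← (CategoryTheory.shiftFunctor (Dual.D A) n).map_comp eX.inv eX.hom, eX.inv_hom_id,
      CategoryTheory.Functor.map_id, Category.comp_id]
  exact ⟨e₁ ≪≫ (DRing.RHomCx K).mapIso eX.symm ≪≫ rhomObj K JX ≪≫
    (asIso (DerivedCategory.Q.map (homCxPre j JX))).symm ≪≫ asIso (DerivedCategory.Q.map (homCxPre g JX)) ≪≫
    (asIso (DerivedCategory.Q.map ((DRing.homCxFunctor G).map f))).symm ≪≫ (rhomObj G JY).symm ≪≫
    (DRing.RHomCx G).mapIso eJY⟩

end Groth.Agent.H4LocDual
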