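import Groth.Agent.H4DR.RHom.Cech
import Groth.Agent.H4DR.RG.GM
import Groth.Agent.H4DR.RG.HomColim
import Groth.Agent.H4DR.LD.Applications
import Mathlib.Algebra.Homology.DerivedCategory.FullyFaithful

/-!
# `RHom` out of torsion objects
-/

set_option autoImplicit false
set_option linter.style.haveILetI false
universe u

open CategoryTheory CategoryTheory.Limits CochainComplex CochainComplex.HomComplex Pretriangulated
open Groth.Agent.H4DR Groth.Agent.H4DR.RG Groth.Agent.H4DR.RHom Groth.Agent.H4DR.DComplete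

attribute [local instance] HasDerivedCategory.standard

namespace Groth.Agent.H4LocDual

variable {A : Type u} [CommRing A]

/-- `Hom•(G, -)` turns a map inducing bijections on `Hom_D(G, -[n])` into a quasi-isomorphism. -/
theorem quasiIso_homCxPost (G : DRing.Cx A) {J J' : DRing.Cx A} [CochainComplex.IsKInjective J]
    [CochainComplex.IsKInjective J'] (f : J ⟶ J')
    (h : ∀ n : ℤ, Function.Bijective (fun x : DRing.toD G ⟶ DerivedCategory.Q.obj (J⟦n⟧) =>
      x ≫ DerivedCategory.Q.map (f⟦n⟧'))) : QuasiIso ((DRing.homCxFunctor G).map f) := by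
  have hpost : ∀ (n : ℤ) (z : Cocycle G J n),
      DerivedCategory.Q.map (Cocycle.equivHomShift.symm (z.postcomp f)) =
        DerivedCategory.Q.map (Cocycle.equivHomShift.symm z) ≫ DerivedCategory.Q.map (f⟦n⟧') := fun n z => by
    rw [Cocycle.equivHomShift_symm_postcomp, Functor.map_comp]
  have hzero : ∀ {L : DRing.Cx A} [CochainComplex.IsKInjective L] (n : ℤ) (z : Cocycle G L n),
      DerivedCategory.Q.map (Cocycle.equivHomShift.symm z) = 0 ↔ z ∈ coboundaries G L n := fun {L} _ n z => by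
    rw [← CohomologyClass.toHom_mk_eq_zero_iff, CohomologyClass.toHom_mk]
    refine ⟨fun h0 => ?_, fun h0 => ?_⟩
    · rw [HomotopyCategory.eq_of_homotopy _ _ (nonempty_homotopy_of_Q_map _ h0).some, Functor.map_zero]
    · rw [DerivedCategory.Q_map_eq_of_homotopy (h := HomotopyCategory.homotopyOfEq _ _
        (h0.trans (Functor.map_zero _ _ _).symm)), Functor.map_zero]
  refine ⟨fun n => quasiIsoAt_of_elements _ n (fun (y : Cochain G J' n) hy => ?_)
    fun (x : Cochain G J n) b hx hxb => ?_⟩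
  · let z : Cocycle G J' n := Cocycle.mk y (n + 1) rfl hy
    obtain ⟨w, hw⟩ := (h n).2 (DerivedCategory.Q.map (Cocycle.equivHomShift.symm z))
    obtain ⟨f', hf'⟩ := DComplete.exists_Q_map_eq (J := J⟦n⟧) w
    let z' : Cocycle G J n := Cocycle.equivHomShift f'
    have hd : z'.postcomp f - z ∈ coboundaries G J' n := (hzero n _).1 (by
      rw [map_sub, Functor.map_sub, hpost, sub_eq_zero]
      show DerivedCategory.Q.map (Cocycle.equivHomShift.symm (Cocycle.equivHomShift f')) ≫ _ = _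
      rw [AddEquiv.symm_apply_apply, hf']
      exact hw)
    obtain ⟨b, hb⟩ := (mem_coboundaries_iff _ (n - 1) (by omega)).1 hd
    refine ⟨z'.1, b, Cocycle.δ_eq_zero z' (n + 1), ?_⟩
    show z'.1.comp (Cochain.ofHom f) (add_zero n) = y + δ (n - 1) n b
    rw [hb]
    exact (add_sub_cancel _ _).symm
  · let z' : Cocycle G J n := Cocycle.mk x (n + 1) rfl hx
    have hd : z'.postcomp f ∈ coboundaries G J' n := (mem_coboundaries_iff _ (n - 1) (by omega)).2 ⟨b, hxb.symm⟩
    have hq := (hzero n _).2 hd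
    rw [hpost] at hq
    have h0 : DerivedCategory.Q.map (Cocycle.equivHomShift.symm z') = 0 :=
      (h n).1 (hq.trans zero_comp.symm)
    exact (mem_coboundaries_iff _ (n - 1) (by omega)).1 ((hzero n _).1 h0)

lemma isTors_shift {I : Ideal A} {T : Dual.D A} (h : IsTors I T) (n : ℤ) : IsTors I (T⟦n⟧) := fun i x => by
  let e : Dual.HD A (T⟦n⟧) i ≃ₗ[A] Dual.HD A T (n + i) :=
    ((((DerivedCategory.homologyFunctor (ModuleCat.{u} A) 0).shiftIso n i (n + i) rfl).app T)).toLinearEquiv
  obtain ⟨k, hk⟩ := h (n + i) (e x)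
  exact ⟨k, fun a ha => e.injective (by rw [map_smul, hk a ha, map_zero])⟩

/-- Postcomposition bijections pass to shifts. -/
theorem bijective_postcomp_shift {I : Ideal A} {Y Z : Dual.D A} (v : Y ⟶ Z)
    (h : ∀ T : Dual.D A, IsTors I T → Function.Bijective (fun y : T ⟶ Y => y ≫ v)) (n : ℤ) (T : Dual.D A)
    (hT : IsTors I T) : Function.Bijective (fun y : T ⟶ Y⟦n⟧ => y ≫ v⟦n⟧') := by
  let e : (T⟦-n⟧)⟦n⟧ ≅ T := (CategoryTheory.shiftFunctorCompIsoId (Dual.D A) (-n) n (by omega)).app T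
  have hb := h _ (isTors_shift hT (-n))
  refine ⟨fun a b hab => ?_, fun y => ?_⟩
  · obtain ⟨a', ha⟩ := (CategoryTheory.shiftFunctor (Dual.D A) n).map_surjective (e.hom ≫ a)
    obtain ⟨b', hb'⟩ := (CategoryTheory.shiftFunctor (Dual.D A) n).map_surjective (e.hom ≫ b)
    have : a' = b' := hb.1 ((CategoryTheory.shiftFunctor (Dual.D A) n).map_injective (by
      show (CategoryTheory.shiftFunctor (Dual.D A) n).map (a' ≫ v) = (CategoryTheory.shiftFunctor (Dual.D A) n).map (b' ≫ v)
      rw [Functor.map_comp, Functor.map_comp, ha, hb', Category.assoc, Category.assoc]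
      exact congrArg (e.hom ≫ ·) hab))
    exact (cancel_epi e.hom).1 (ha.symm.trans ((congrArg (CategoryTheory.shiftFunctor (Dual.D A) n).map this).trans hb'))
  · obtain ⟨y', hy'⟩ := (CategoryTheory.shiftFunctor (Dual.D A) n).map_surjective (e.hom ≫ y)
    obtain ⟨w, hw⟩ := hb.2 y'
    refine ⟨e.inv ≫ (CategoryTheory.shiftFunctor (Dual.D A) n).map w, ?_⟩
    show (e.inv ≫ (CategoryTheory.shiftFunctor (Dual.D A) n).map w) ≫ v⟦n⟧' = y
    rw [Category.assoc, show (CategoryTheory.shiftFunctor (Dual.D A) n).map w ≫ v⟦n⟧' = (CategoryTheory.shiftFunctor (Dual.D A) n).map (w ≫ v) from ((CategoryTheory.shiftFunctor (Dual.D A) n).map_comp w v).symm,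
      show w ≫ v = y' from hw, hy', Iso.inv_hom_id_assoc]

/-- Conjugating bijectivity of postcomposition. -/
theorem bijective_postcomp_conj {C : Type*} [Category C] {T Y Z Y' Z' : C} {v : Y ⟶ Z} {v' : Y' ⟶ Z'}
    (α : Y' ≅ Y) (β : Z' ≅ Z) (hv : v' ≫ β.hom = α.hom ≫ v)
    (h : Function.Bijective (fun y : T ⟶ Y => y ≫ v)) : Function.Bijective (fun y : T ⟶ Y' => y ≫ v') := by
  refine ⟨fun a b hab => (cancel_mono α.hom).1 (h.1 ?_), fun y => ?_⟩
  · simp only [Category.assoc, ← hv]
    rw [← Category.assoc a, ← Category.assoc b, show a ≫ v' = b ≫ v' from hab]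
  · obtain ⟨w, hw⟩ := h.2 (y ≫ β.hom)
    refine ⟨w ≫ α.inv, (cancel_mono β.hom).1 ?_⟩
    show ((w ≫ α.inv) ≫ v') ≫ β.hom = y ≫ β.hom
    rw [Category.assoc, Category.assoc, hv, Iso.inv_hom_id_assoc]
    exact hw

end Groth.Agent.H4LocDual
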